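import Cfsg.Agent.H269.S69.Frame
import Cfsg.Agent.H202.T.Low
import Cfsg.Agent.S0270

/-!
# `G / K = PSp₈(q).(...)`, `q` a power of 7: no normal 7-subgroup (S3469, task T3)
-/

set_option autoImplicit false

universe u v

namespace Cfsg.Agent.H269.S69

open Matrix Cfsg Cfsg.Agent.H903.SylSemi Cfsg.Agent.H214.S69

/-- the statement `NCStmt` for a group `Sp₄(F)` acting on a subgroup `D` of `V` with `-1` in the kernel -/
theorem exists_fix {M : Type*} [Group M] {V : Type v} [AddCommGroup V] [DistribMulAction M V] [Finite V]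
    (h7 : ∀ v : V, 7 • v = 0) {F : Type} [Field F] (hN : NCStmt.{v} F)
    (α : symplecticGroup (Fin 2) F →* M) (D : AddSubgroup V) (hD : ∀ A, ∀ v ∈ D, α A • v ∈ D)
    (hz : ∀ v ∈ D, α (neg1 F 2) • v = v) (hne : D ≠ ⊥)
    (hnorm : ∀ A : symplecticGroup (Fin 2) F, orderOf A = 7 → ∀ v ∈ D, ∑ i ∈ Finset.range 7, (α A) ^ i • v = 0)
    (B : symplecticGroup (Fin 2) F) (hB : ¬ 7 ∣ orderOf B) : ∃ v ∈ D, v ≠ 0 ∧ α B • v = v := by
  let inst1 : DistribMulAction (symplecticGroup (Fin 2) F) D :=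
    { smul := fun A d => ⟨α A • (d : V), hD A d d.2⟩
      one_smul := fun d => Subtype.ext (by
        show α 1 • (d : V) = d
        rw [map_one, one_smul])
      mul_smul := fun A B d => Subtype.ext (by
        show α (A * B) • (d : V) = α A • (α B • (d : V))
        rw [map_mul, mul_smul])
      smul_zero := fun A => Subtype.ext (by
        show α A • ((0 : D) : V) = 0
        exact smul_zero _)
      smul_add := fun A d e => Subtype.ext (by
        show α A • ((d : V) + (e : V)) = α A • (d : V) + α A • (e : V)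
        exact smul_add _ _ _) }
  let f : symplecticGroup (Fin 2) F →* AddMonoid.End D := DistribMulAction.toAddMonoidEnd (symplecticGroup (Fin 2) F) D
  have hf : Subgroup.center (symplecticGroup (Fin 2) F) ≤ f.ker := by
    intro A hA
    rw [MonoidHom.mem_ker]
    rcases mem_center_iff.1 hA with h | h
    · rw [h, map_one]
    · rw [h]
      ext d
      exact hz d d.2
  let g : PSp 2 F →* AddMonoid.End D := QuotientGroup.lift _ f hf
  let inst2 : DistribMulAction (PSp 2 F) D := DistribMulAction.compHom D g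
  have hsm : ∀ (A : symplecticGroup (Fin 2) F) (d : D), (((QuotientGroup.mk A : PSp 2 F) • d : D) : V) = α A • (d : V) :=
    fun A d => rfl
  have hnt : Nontrivial D := (AddSubgroup.nontrivial_iff_ne_bot D).2 hne
  have hfin : Finite D := inferInstance
  have hD7 : ∀ x : D, 7 • x = 0 := fun x => Subtype.ext (h7 x)
  have hNZ : NormZero 7 (PSp 2 F) D := by
    intro u hu v
    obtain ⟨A, rfl⟩ := QuotientGroup.mk_surjective u
    obtain ⟨B, hB1, hB2⟩ : ∃ B : symplecticGroup (Fin 2) F, (QuotientGroup.mk B : PSp 2 F) = QuotientGroup.mk A ∧ B ^ 7 = 1 := by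
      have h1 : (QuotientGroup.mk A : PSp 2 F) ^ 7 = 1 := by rw [← hu, pow_orderOf_eq_one]
      have h2 : A ^ 7 ∈ Subgroup.center (symplecticGroup (Fin 2) F) := by
        rw [← QuotientGroup.eq_one_iff, QuotientGroup.mk_pow]
        exact h1
      rcases mem_center_iff.1 h2 with h3 | h3
      · exact ⟨A, rfl, h3⟩
      · refine ⟨neg1 F 2 * A, ?_, ?_⟩
        · rw [QuotientGroup.mk_mul, (QuotientGroup.eq_one_iff _).2 (neg1_mem_center (n := 2)), one_mul]
        · have hc : Commute (neg1 F 2) A := neg1_comm A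
          rw [hc.mul_pow, h3, show (7 : ℕ) = 2 * 3 + 1 from rfl, pow_succ, pow_mul, sq, neg1_sq, one_pow, one_mul, neg1_sq]
    have hB7 : orderOf B = 7 := by
      have hp : Fact (Nat.Prime 7) := ⟨by norm_num⟩
      refine orderOf_eq_prime hB2 ?_
      rintro rfl
      rw [← hB1, QuotientGroup.mk_one, orderOf_one] at hu
      omega
    apply Subtype.ext
    rw [AddSubgroup.val_finsetSum]
    rw [← hB1]
    refine Eq.trans ?_ (hnorm B hB7 v v.2)
    refine Finset.sum_congr rfl fun i _ => ?_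
    rw [← QuotientGroup.mk_pow, hsm, map_pow]
  obtain ⟨x, hx, hfx⟩ := hN D hD7 hNZ (QuotientGroup.mk B) (fun h => hB (h.trans (orderOf_map_dvd (QuotientGroup.mk' _) B)))
  refine ⟨x, x.2, fun h => hx (Subtype.ext h), ?_⟩
  have := congrArg Subtype.val hfx
  rwa [hsm] at this

/-- `7 (q⁴ - 1) / 2` is too large -/
theorem not_half {q : ℕ} (hq : 7 ≤ q) (h : H202.T.InL 7 q (7 * ((q ^ 4 - 1) / 2))) : False := by
  have h1 : 7 ^ 2 ≤ q ^ 2 := Nat.pow_le_pow_left hq 2
  have h2 : 7 ^ 3 ≤ q ^ 3 := Nat.pow_le_pow_left hq 3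
  have h3 : 7 ^ 4 ≤ q ^ 4 := Nat.pow_le_pow_left hq 4
  have e1 : 2 * q ^ 4 = q * (2 * q ^ 3) := by ring
  have e2 : 2 * q ^ 4 = (2 * q ^ 3) * q := by ring
  have e3 : 2 * q ^ 4 = q * ((2 * q ^ 2) * q) := by ring
  have key : ∀ E : ℕ, 7 * ((q ^ 4 - 1) / 2) ∣ E → 0 < E → 2 * q ^ 4 < E := by
    intro E hE h0
    have := Nat.le_of_dvd h0 hE
    omega
  rcases h with h | h | h | h | h | h | h | h | h | ⟨h, -⟩ | ⟨h, -⟩ | ⟨-, h⟩
  · have := key _ h (by unfold H202.T.mm; omega)
    unfold H202.T.mm at this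
    omega
  · have := key _ h (by omega)
    omega
  · have h4 := key _ h (Nat.mul_pos (by omega) (by omega))
    have h5 : (q ^ 3 + 1) * ((q - 1) / 2) ≤ (2 * q ^ 3) * q := Nat.mul_le_mul (by omega) (by omega)
    omega
  · have h4 := key _ h (Nat.mul_pos (by omega) (by omega))
    have h5 : (q ^ 3 - 1) * ((q + 1) / 2) ≤ (2 * q ^ 3) * q := Nat.mul_le_mul (by omega) (by omega)
    omega
  · have h4 := key _ h (Nat.mul_pos (by omega) (by omega))
    have h5 : 7 * (q ^ 3 + 1) ≤ q * (2 * q ^ 3) := Nat.mul_le_mul hq (by omega)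
    omega
  · have h4 := key _ h (Nat.mul_pos (by omega) (by omega))
    have h5 : 7 * (q ^ 3 - 1) ≤ q * (2 * q ^ 3) := Nat.mul_le_mul hq (by omega)
    omega
  · have h4 := key _ h (Nat.mul_pos (by omega) (Nat.mul_pos (by omega) (by omega)))
    have h5 : 7 * ((q ^ 2 + 1) * ((q + 1) / 2)) ≤ q * ((2 * q ^ 2) * q) :=
      Nat.mul_le_mul hq (Nat.mul_le_mul (by omega) (by omega))
    omega
  · have h4 := key _ h (Nat.mul_pos (by omega) (Nat.mul_pos (by omega) (by omega)))
    have h5 : 7 * ((q ^ 2 + 1) * ((q - 1) / 2)) ≤ q * ((2 * q ^ 2) * q) :=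
      Nat.mul_le_mul hq (Nat.mul_le_mul (by omega) (by omega))
    omega
  · have h4 := key _ h (Nat.mul_pos (by omega) (by omega))
    have h5 : 7 * (q ^ 2 - 1) ≤ q * ((2 * q ^ 2) * q) := by
      refine Nat.mul_le_mul hq ?_
      calc q ^ 2 - 1 ≤ (2 * q ^ 2) * 1 := by omega
        _ ≤ (2 * q ^ 2) * q := Nat.mul_le_mul_left _ (by omega)
    omega
  · omega
  · omega
  · have := key _ h (by norm_num)
    omega

section order

variable {F : Type*} [Field F] [Fintype F] {M : Type*} [Group M]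

theorem orderOf_tau (hF : Odd (Fintype.card F)) (τ : symplecticGroup (Fin 2) F × symplecticGroup (Fin 2) F →* M)
    (hτ : ∀ x, τ x = 1 ↔ x = 1 ∨ x = (neg1 F 2, neg1 F 2)) (h2 : (2 : F) ≠ 0) {A B : symplecticGroup (Fin 2) F}
    (hA : orderOf A = Fintype.card F ^ 2 + 1) (hB : orderOf B = Fintype.card F ^ 2 - 1) :
    orderOf (τ (A, B)) = (Fintype.card F ^ 4 - 1) / 2 := by
  obtain ⟨Q, hQ, h3, h4, h5, h6⟩ := H202.T.exists_Q hF
  rw [h6, h5]
  rw [h3] at hA
  rw [h4] at hB
  have hn := neg1_ne h2 (show 0 < 2 by norm_num)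
  apply Nat.dvd_antisymm
  · apply orderOf_dvd_of_pow_eq_one
    rw [← map_pow, hτ]
    left
    have hA1 : A ^ (2 * Q * (Q - 1)) = 1 := by rw [← hA, pow_mul, pow_orderOf_eq_one, one_pow]
    have hB1 : B ^ (2 * Q * (Q - 1)) = 1 := by
      rw [show 2 * Q * (Q - 1) = 2 * (Q - 1) * Q by ring, ← hB, pow_mul, pow_orderOf_eq_one, one_pow]
    exact Prod.ext hA1 hB1
  · obtain ⟨d, hd⟩ : ∃ d, d = orderOf (τ (A, B)) := ⟨_, rfl⟩
    rw [← hd]
    have h7 : τ ((A, B) ^ d) = 1 := by rw [map_pow, hd, pow_orderOf_eq_one]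
    have hQ1 : 1 ≤ Q := hQ.pos
    rcases (hτ _).1 h7 with h8 | h8
    · have hA1 : A ^ d = 1 := congrArg Prod.fst h8
      have hB1 : B ^ d = 1 := congrArg Prod.snd h8
      have h9 := orderOf_dvd_of_pow_eq_one hA1
      have h10 := orderOf_dvd_of_pow_eq_one hB1
      rw [hA] at h9
      rw [hB] at h10
      obtain ⟨e, rfl⟩ : 2 ∣ d := (Dvd.intro _ rfl).trans h9
      have h11 : Q ∣ e := Nat.dvd_of_mul_dvd_mul_left (by norm_num) h9
      have h12 : Q - 1 ∣ e := Nat.dvd_of_mul_dvd_mul_left (by norm_num) h10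
      rw [mul_assoc]
      refine Nat.mul_dvd_mul_left 2 (Nat.Coprime.mul_dvd_of_dvd_of_dvd ?_ h11 h12)
      have h13 : Nat.Coprime (Q - 1 + 1) (Q - 1) := by simp
      rwa [Nat.sub_add_cancel hQ1] at h13
    · exfalso
      have hA1 : A ^ d = neg1 F 2 := congrArg Prod.fst h8
      have hB1 : B ^ d = neg1 F 2 := congrArg Prod.snd h8
      have h9 : 2 * Q ∣ 2 * d := by
        rw [← hA]
        apply orderOf_dvd_of_pow_eq_one
        rw [mul_comm, pow_mul, hA1, sq, neg1_sq]
      have h10 : 2 * (Q - 1) ∣ 2 * d := by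
        rw [← hB]
        apply orderOf_dvd_of_pow_eq_one
        rw [mul_comm, pow_mul, hB1, sq, neg1_sq]
      have h11 : Q ∣ d := Nat.dvd_of_mul_dvd_mul_left (by norm_num) h9
      have h12 : Q - 1 ∣ d := Nat.dvd_of_mul_dvd_mul_left (by norm_num) h10
      have h13 : 2 ∣ Q - 1 := by
        obtain ⟨k, rfl⟩ := hQ
        exact ⟨k, by omega⟩
      have h14 : 2 * Q ∣ d := by
        refine Nat.Coprime.mul_dvd_of_dvd_of_dvd ?_ (h13.trans h12) h11
        exact hQ.coprime_two_left
      apply hn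
      rw [← hA1, ← orderOf_dvd_iff_pow_eq_one, hA]
      exact h14

end order

/-- **The case `PSp₈(q)`, own characteristic.** -/
theorem sp_case {F : Type} [Field F] [Fintype F] [CharP F 7] {G : Type u} [Group G] [Finite G]
    (hs : Up8 (Fintype.card F) G) (hN : NCStmt.{v} F) (K : Subgroup G) [K.Normal] (fr : SpFrame F 4 (G ⧸ K))
    {V : Type v} [AddCommGroup V] [DistribMulAction (G ⧸ K) V] (hV : PMod 7 G K V) : False := by
  classical
  have hVfin := hV.finite
  have hVnt := hV.nontrivial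
  obtain ⟨f, hf1, hf⟩ := hs.pow
  have hqo : Odd (Fintype.card F) := by rw [hf]; exact Odd.pow (by decide)
  have hq7 : 7 ∣ Fintype.card F := by rw [hf]; exact dvd_pow_self 7 (by omega)
  have hq : 7 ≤ Fintype.card F := Nat.le_of_dvd Fintype.card_pos hq7
  have h2 : (2 : F) ≠ 0 := by
    intro h
    have h1 : ((2 : ℕ) : F) = 0 := by exact_mod_cast h
    rw [CharP.cast_eq_zero_iff F 7] at h1
    omega
  have hn := neg1_ne h2 (show 0 < 2 by norm_num)
  obtain ⟨φ, hφ, hφ1⟩ := exists_phi (F := F)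
  obtain ⟨τ, hτd⟩ : ∃ τ : symplecticGroup (Fin 2) F × symplecticGroup (Fin 2) F →* G ⧸ K, ∀ x, τ x = sig fr (φ x) :=
    ⟨(sig fr).comp φ, fun _ => rfl⟩
  have hτ : ∀ x, τ x = 1 ↔ x = 1 ∨ x = (neg1 F 2, neg1 F 2) := by
    intro x
    rw [hτd, sig_eq_one, ← hφ1, hφ.eq_iff, map_eq_one_iff φ hφ]
  have hcomm : ∀ A B : symplecticGroup (Fin 2) F, τ (A, 1) * τ (1, B) = τ (1, B) * τ (A, 1) := by
    intro A B
    rw [← map_mul, ← map_mul, Prod.mk_mul_mk, Prod.mk_mul_mk, one_mul, mul_one, one_mul, mul_one]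
  obtain ⟨t, ht⟩ : ∃ t, t = τ (neg1 F 2, 1) := ⟨_, rfl⟩
  have ht' : t = τ (1, neg1 F 2) := by
    have h1 : τ (neg1 F 2, neg1 F 2) = 1 := (hτ _).2 (Or.inr rfl)
    have h3 : τ (neg1 F 2, neg1 F 2) = τ (neg1 F 2, 1) * τ (1, neg1 F 2) := by
      rw [← map_mul, Prod.mk_mul_mk, one_mul, mul_one]
    have h4 : τ (neg1 F 2, 1) * τ (neg1 F 2, 1) = 1 := by
      rw [← map_mul, Prod.mk_mul_mk, one_mul, neg1_sq]
      exact map_one τ
    rw [ht]
    rw [h3] at h1
    exact mul_left_cancel (h4.trans h1.symm)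
  have htt : t * t = 1 := by
    rw [ht, ← map_mul, Prod.mk_mul_mk, one_mul, neg1_sq]
    exact map_one τ
  have ht1 : t ≠ 1 := by
    rw [ht]
    intro h
    rcases (hτ _).1 h with h1 | h1
    · exact hn (congrArg Prod.fst h1)
    · exact hn (congrArg Prod.snd h1).symm
  have hot : orderOf t = 2 := by
    have hp : Fact (Nat.Prime 2) := ⟨Nat.prime_two⟩
    exact orderOf_eq_prime (by rw [sq, htt]) ht1
  have htc1 : ∀ A, t * τ (A, 1) = τ (A, 1) * t := by
    intro A
    rw [ht', hcomm]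
  have htc2 : ∀ A, t * τ (1, A) = τ (1, A) * t := by
    intro A
    rw [ht, hcomm]
  -- the fixed points of `t`
  let D : AddSubgroup V :=
    { carrier := {v | t • v = v}
      add_mem' := by
        intro a b ha hb
        show t • (a + b) = a + b
        rw [smul_add, show t • a = a from ha, show t • b = b from hb]
      zero_mem' := smul_zero _
      neg_mem' := by
        intro a ha
        show t • (-a) = -a
        rw [smul_neg, show t • a = a from ha] }
  have hDmem : ∀ v, v ∈ D ↔ t • v = v := fun v => Iff.rfl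
  have hDne : D ≠ ⊥ := by
    intro hD
    have hneg : ∀ v : V, t • v = -v := by
      intro v
      have h1 : v + t • v ∈ D := by
        rw [hDmem, smul_add, smul_smul, htt, one_smul, add_comm]
      rw [hD, AddSubgroup.mem_bot] at h1
      exact (neg_eq_of_add_eq_zero_right h1).symm
    obtain ⟨x0, hx0⟩ := H202.T.sp_mm (F := F) hqo
    have hmm := H202.T.forty_one_le (q := Fintype.card F) (by omega)
    have hsimple : IsSimpleGroup (PSp 4 F) := S0270.result 4 (by norm_num) (by norm_num)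
    let N : Subgroup (symplecticGroup (Fin 4) F) :=
      { carrier := {A | ∀ v : V, sig fr A • v = v}
        mul_mem' := by
          intro a b ha hb v
          rw [map_mul, mul_smul, hb v, ha v]
        one_mem' := by
          intro v
          rw [map_one, one_smul]
        inv_mem' := by
          intro a ha v
          rw [map_inv, inv_smul_eq_iff, ha v] }
    have hNmem : ∀ A, A ∈ N ↔ ∀ v : V, sig fr A • v = v := fun A => Iff.rfl
    have hNn : N.Normal := by
      refine ⟨fun A hA B v => ?_⟩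
      rw [map_mul, map_mul, map_inv, mul_smul, mul_smul, hA, smul_inv_smul]
    have hNm : (N.map (QuotientGroup.mk' (Subgroup.center (symplecticGroup (Fin 4) F)))).Normal :=
      hNn.map _ (QuotientGroup.mk'_surjective _)
    rcases hsimple.eq_bot_or_eq_top_of_normal _ hNm with h3 | h3
    · -- the image of `(-1, 1)` is central
      obtain ⟨T, hT⟩ : ∃ T, T = φ (neg1 F 2, 1) := ⟨_, rfl⟩
      have htT : sig fr T = t := by rw [hT, ht, hτd]
      obtain ⟨z, hz⟩ : ∃ z : PSp 4 F, z = QuotientGroup.mk T := ⟨_, rfl⟩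
      have hz1 : z ≠ 1 := by
        rw [hz]
        intro h
        have h4 := mem_center_iff.1 ((QuotientGroup.eq_one_iff _).1 h)
        rw [← sig_eq_one fr, htT] at h4
        exact ht1 h4
      have hzz : z * z = 1 := by
        rw [hz, ← QuotientGroup.mk_mul]
        have h4 : T * T = 1 := by
          rw [hT, ← map_mul, Prod.mk_mul_mk, one_mul, neg1_sq]
          exact map_one φ
        rw [h4, QuotientGroup.mk_one]
      have hzc : ∀ x : PSp 4 F, x * z = z * x := by
        intro x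
        obtain ⟨A, rfl⟩ := QuotientGroup.mk_surjective x
        have h4 : A * T * A⁻¹ * T⁻¹ ∈ N := by
          intro v
          have h5 : sig fr (A * T * A⁻¹ * T⁻¹) = sig fr A * t * (sig fr A)⁻¹ * t⁻¹ := by
            rw [map_mul, map_mul, map_mul, map_inv, map_inv, htT]
          have h6 : t⁻¹ = t := inv_eq_of_mul_eq_one_left htt
          rw [h5, h6, mul_smul, mul_smul, mul_smul, hneg, hneg, smul_neg, smul_inv_smul, neg_neg]
        have h5 : (QuotientGroup.mk (A * T * A⁻¹ * T⁻¹) : PSp 4 F) = 1 := by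
          have h6 := Subgroup.mem_map_of_mem (QuotientGroup.mk' (Subgroup.center (symplecticGroup (Fin 4) F))) h4
          rw [h3, Subgroup.mem_bot] at h6
          exact h6
        rw [hz]
        have h7 : (QuotientGroup.mk (A * T * A⁻¹ * T⁻¹) : PSp 4 F) =
          QuotientGroup.mk A * QuotientGroup.mk T * (QuotientGroup.mk A)⁻¹ * (QuotientGroup.mk T)⁻¹ := rfl
        rw [h7, mul_inv_eq_one, mul_inv_eq_iff_eq_mul] at h5
        exact h5
      have hZn : (Subgroup.zpowers z).Normal := by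
        refine ⟨fun y hy g => ?_⟩
        obtain ⟨k, rfl⟩ := hy
        have h4 : g * z ^ k * g⁻¹ = z ^ k := by
          have h5 : Commute g z := hzc g
          rw [(h5.zpow_right k).eq, mul_inv_cancel_right]
        show g * z ^ k * g⁻¹ ∈ _
        rw [h4]
        exact ⟨k, rfl⟩
      rcases hsimple.eq_bot_or_eq_top_of_normal _ hZn with h4 | h4
      · exact hz1 (Subgroup.zpowers_eq_bot.1 h4)
      · obtain ⟨k, hk⟩ : x0 ∈ Subgroup.zpowers z := by rw [h4]; exact Subgroup.mem_top _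
        have h5 : x0 ^ 2 = 1 := by
          rw [← hk]
          show (z ^ k) ^ 2 = 1
          rw [sq, ← (Commute.refl z).mul_zpow, hzz, _root_.one_zpow]
        have h6 := orderOf_dvd_of_pow_eq_one h5
        rw [hx0] at h6
        have := Nat.le_of_dvd (by norm_num) h6
        omega
    · obtain ⟨A, hA, hAx⟩ : x0 ∈ N.map (QuotientGroup.mk' (Subgroup.center (symplecticGroup (Fin 4) F))) := by
        rw [h3]; exact Subgroup.mem_top _
      have hord : orderOf (sig fr A) = H202.T.mm (Fintype.card F) := by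
        rw [← hx0, ← hAx]
        apply orderOf_eq_orderOf_iff.2
        intro k
        rw [← map_pow, ← map_pow, sig_eq_one, ← mem_center_iff]
        exact (QuotientGroup.eq_one_iff _).symm
      have h7m : ¬ 7 ∣ H202.T.mm (Fintype.card F) := fun h => H202.T.not_dvd_q hqo (by norm_num) h hq7
      obtain ⟨v, hv⟩ := exists_ne (0 : V)
      obtain ⟨x, hx⟩ := hV.fix (sig fr A) (by rw [hord]; exact h7m) v hv (hA v)
      rw [hord] at hx
      obtain ⟨r, hr, hrm⟩ := H202.T.exists_prime_mm (q := Fintype.card F) (by omega)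
      have h4 := H202.T.InL.iso (by norm_num) (by norm_num) hq7 hqo (hs.up x) hr hrm (by
        rw [hx]; exact hrm.mul_left 7)
      rw [hx] at h4
      have h5 := Nat.le_of_dvd (by omega) h4
      omega
  -- norms
  have hnorm : ∀ u : G ⧸ K, t * u = u * t → orderOf u = 7 → ∀ v ∈ D, ∑ i ∈ Finset.range 7, u ^ i • v = 0 := by
    intro u hu hou v hv
    by_contra hcon
    obtain ⟨x, hx⟩ := hV.nrm t u hu (by rw [hot]; norm_num) hou v hv hcon
    rw [hot] at hx
    exact hs.no98 x hx
  have hord7 : ∀ x, x ^ 7 = 1 → τ x ≠ 1 → orderOf (τ x) = 7 := by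
    intro x hx hx1
    have hp : Fact (Nat.Prime 7) := ⟨by norm_num⟩
    exact orderOf_eq_prime (by rw [← map_pow, hx, map_one]) hx1
  obtain ⟨A, hA⟩ := Cfsg.Agent.H376.SpEmb.exists_plus F 2 two_ne_zero
  obtain ⟨B, hB⟩ := Cfsg.Agent.H376.SpEmb.exists_minus F 2 two_ne_zero
  rw [Nat.card_eq_fintype_card] at hA hB
  have h7q : 7 ∣ Fintype.card F ^ 2 := dvd_pow hq7 two_ne_zero
  have hq2 : 7 ^ 2 ≤ Fintype.card F ^ 2 := Nat.pow_le_pow_left hq 2
  obtain ⟨v1, hv1, hv10, hv1A⟩ := exists_fix hV.exp hN (τ.comp (MonoidHom.inl _ _)) D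
    (by
      intro C v hv
      rw [hDmem] at hv ⊢
      show t • (τ (C, 1) • v) = τ (C, 1) • v
      rw [smul_smul, htc1, ← smul_smul, hv])
    (by
      intro v hv
      show τ (neg1 F 2, 1) • v = v
      rw [← ht]; exact hv) hDne
    (by
      intro C hC v hv
      refine hnorm _ (htc1 C) (hord7 (C, 1) ?_ ?_) v hv
      · rw [Prod.pow_mk, one_pow, ← hC, pow_orderOf_eq_one]; rfl
      · intro h
        rcases (hτ _).1 h with h1 | h1
        · have h3 : C = 1 := congrArg Prod.fst h1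
          rw [h3, orderOf_one] at hC
          omega
        · exact hn (congrArg Prod.snd h1).symm)
    A (by rw [hA]; omega)
  have hv1A' : τ (A, 1) • v1 = v1 := hv1A
  let D' : AddSubgroup V :=
    { carrier := {v | t • v = v ∧ τ (A, 1) • v = v}
      add_mem' := by
        rintro a b ⟨ha, ha'⟩ ⟨hb, hb'⟩
        exact ⟨by rw [smul_add, ha, hb], by rw [smul_add, ha', hb']⟩
      zero_mem' := ⟨smul_zero _, smul_zero _⟩
      neg_mem' := by
        rintro a ⟨ha, ha'⟩
        exact ⟨by rw [smul_neg, ha], by rw [smul_neg, ha']⟩ }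
  have hD'mem : ∀ v, v ∈ D' ↔ t • v = v ∧ τ (A, 1) • v = v := fun v => Iff.rfl
  obtain ⟨v2, hv2, hv20, hv2B⟩ := exists_fix hV.exp hN (τ.comp (MonoidHom.inr _ _)) D'
    (by
      intro C v hv
      rw [hD'mem] at hv ⊢
      refine ⟨?_, ?_⟩
      · show t • (τ (1, C) • v) = τ (1, C) • v
        rw [smul_smul, htc2, ← smul_smul, hv.1]
      · show τ (A, 1) • (τ (1, C) • v) = τ (1, C) • v
        rw [smul_smul, hcomm, ← smul_smul, hv.2])
    (by
      intro v hv
      show τ (1, neg1 F 2) • v = v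
      rw [← ht']; exact hv.1)
    (by
      intro h
      have h1 : v1 ∈ D' := ⟨hv1, hv1A'⟩
      rw [h, AddSubgroup.mem_bot] at h1
      exact hv10 h1)
    (by
      intro C hC v hv
      refine hnorm _ (htc2 C) (hord7 (1, C) ?_ ?_) v hv.1
      · rw [Prod.pow_mk, one_pow, ← hC, pow_orderOf_eq_one]; rfl
      · intro h
        rcases (hτ _).1 h with h1 | h1
        · have h3 : C = 1 := congrArg Prod.snd h1
          rw [h3, orderOf_one] at hC
          omega
        · exact hn (congrArg Prod.fst h1).symm)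
    B (by rw [hB]; omega)
  have hv2B' : τ (1, B) • v2 = v2 := hv2B
  have hfix : τ (A, B) • v2 = v2 := by
    have h1 : τ (A, B) = τ (A, 1) * τ (1, B) := by rw [← map_mul, Prod.mk_mul_mk, one_mul, mul_one]
    rw [h1, mul_smul, hv2B', hv2.2]
  have hord := orderOf_tau hqo τ hτ h2 hA hB
  have h7 : ¬ 7 ∣ orderOf (τ (A, B)) := by
    rw [hord]
    intro h
    have h4 : 7 ∣ Fintype.card F ^ 4 := dvd_pow hq7 (by norm_num)
    have h5 : 7 ^ 4 ≤ Fintype.card F ^ 4 := Nat.pow_le_pow_left hq 4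
    have h6 : Fintype.card F ^ 4 % 2 = 1 := Nat.odd_iff.1 hqo.pow
    omega
  obtain ⟨x, hx⟩ := hV.fix _ h7 v2 hv20 hfix
  rw [hord] at hx
  have h8 := hs.up x
  rw [hx] at h8
  exact not_half hq h8

end Cfsg.Agent.H269.S69
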