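import Cfsg.Agent.H214.S69.Defs
import Cfsg.Agent.H376.Odd8Sp
import Cfsg.Agent.ClassicalGeometry.SympAutSemi
import Cfsg.Agent.ClassicalGeometry.SympInvolutions

/-!
# `Sp₈(F)` and `Sp₄(F) × Sp₄(F)` in a symplectic frame (S3469, task T3)

* `neg1 a` : `-1` in `Sp_{2a}(F)`;
* `exists_phi` : `Sp₄ × Sp₄ → Sp₈`;
* `sig fr` : `Sp_{2n}(F) →* M`, with kernel `±1`.
-/

set_option autoImplicit false

universe u v

namespace Cfsg.Agent.H269.S69

open Matrix Cfsg Cfsg.Agent.H903.SylSemi Cfsg.Agent.H214.S69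
open Cfsg.Agent.H376.SpEmb Cfsg.Agent.ClassicalGeometry.SympAutSemi

variable {F : Type*} [Field F]

/-- `-1` -/
def neg1 (F : Type*) [Field F] (a : ℕ) : symplecticGroup (Fin a) F :=
  ⟨-1, SymplecticGroup.neg_mem (one_mem _)⟩

theorem neg1_coe (a : ℕ) : ((neg1 F a : symplecticGroup (Fin a) F) : Matrix (Fin a ⊕ Fin a) (Fin a ⊕ Fin a) F) = -1 := rfl

theorem neg1_sq (a : ℕ) : neg1 F a * neg1 F a = 1 := by
  apply Subtype.ext
  show (-1 : Matrix (Fin a ⊕ Fin a) (Fin a ⊕ Fin a) F) * (-1) = 1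
  rw [neg_mul_neg, one_mul]

theorem neg1_ne (h2 : (2 : F) ≠ 0) {a : ℕ} (ha : 0 < a) : neg1 F a ≠ 1 := by
  intro h
  have h1 : (-1 : Matrix (Fin a ⊕ Fin a) (Fin a ⊕ Fin a) F) = 1 := congrArg Subtype.val h
  have h3 := congrFun (congrFun h1 (Sum.inl ⟨0, ha⟩)) (Sum.inl ⟨0, ha⟩)
  rw [Matrix.neg_apply, Matrix.one_apply_eq] at h3
  apply h2
  have : (1 : F) + 1 = 0 := by nth_rewrite 1 [← h3]; ring
  rw [← this]; norm_num

theorem neg1_comm {a : ℕ} (A : symplecticGroup (Fin a) F) : neg1 F a * A = A * neg1 F a := by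
  apply Subtype.ext
  show (-1 : Matrix (Fin a ⊕ Fin a) (Fin a ⊕ Fin a) F) * A.1 = A.1 * (-1)
  rw [neg_one_mul, mul_neg_one]

theorem exists_phi {F : Type*} [Field F] : ∃ φ : symplecticGroup (Fin 2) F × symplecticGroup (Fin 2) F →*
      symplecticGroup (Fin 4) F, Function.Injective φ ∧ φ (neg1 F 2, neg1 F 2) = neg1 F 4 := by
  refine ⟨(reidx (finSumFinEquiv (m := 2) (n := 2))).comp (blk _ _), (reidx_injective _).comp (blk_injective _ _), ?_⟩
  apply Subtype.ext
  show (blkM (-1 : Matrix (Fin 2 ⊕ Fin 2) (Fin 2 ⊕ Fin 2) F) (-1)).submatrix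
    (Equiv.sumCongr (finSumFinEquiv (m := 2) (n := 2)) finSumFinEquiv).symm
    (Equiv.sumCongr finSumFinEquiv finSumFinEquiv).symm = -1
  have h4 : blkM (-1 : Matrix (Fin 2 ⊕ Fin 2) (Fin 2 ⊕ Fin 2) F)
      (-1 : Matrix (Fin 2 ⊕ Fin 2) (Fin 2 ⊕ Fin 2) F) = -1 := by
    have h5 := blkM_one (F := F) (α := Fin 2) (β := Fin 2)
    have h6 : ∀ (g : Matrix (Fin 2 ⊕ Fin 2) (Fin 2 ⊕ Fin 2) F)
      (k : Matrix (Fin 2 ⊕ Fin 2) (Fin 2 ⊕ Fin 2) F), blkM (-g) (-k) = - blkM g k := by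
      intro g k
      rw [blkM, blkM, Matrix.fromBlocks_neg, Matrix.fromBlocks_neg, Matrix.fromBlocks_neg,
        Matrix.fromBlocks_neg, Matrix.fromBlocks_neg]
      simp only [neg_zero]
      rfl
    rw [h6, h5]
  rw [h4]
  ext i j
  rw [Matrix.submatrix_apply, Matrix.neg_apply, Matrix.neg_apply, Matrix.one_apply, Matrix.one_apply]
  simp only [(Equiv.injective (Equiv.sumCongr (finSumFinEquiv (m := 2) (n := 2)) (finSumFinEquiv (m := 2) (n := 2))).symm).eq_iff]

section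

variable {n : ℕ} {M : Type*} [Group M]

theorem isSpMap_rho (A : symplecticGroup (Fin n) F) : IsSpMap F n (rho n F A) :=
  ⟨⟨(isSemi_rho A).1, (isSemi_rho A).2.1⟩, fun u v => sympForm_rho A u v⟩

/-- the isometries in the frame -/
noncomputable def sig (fr : SpFrame F n M) : symplecticGroup (Fin n) F →* M :=
  fr.Φ.comp ((rho n F).codRestrict fr.H (fun A => fr.isom _ (isSpMap_rho A)))

theorem sig_eq_one (fr : SpFrame F n M) {A : symplecticGroup (Fin n) F} : sig fr A = 1 ↔ A = 1 ∨ A = neg1 F n := by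
  constructor
  · intro h
    obtain ⟨a, ha⟩ := (fr.ker _).1 h
    have h1 : A ∈ Subgroup.center (symplecticGroup (Fin n) F) := by
      rw [Subgroup.mem_center_iff]
      intro B
      apply rho_injective
      have h2 : rho n F A = scal F (Fin n ⊕ Fin n → F) a := ha
      rw [map_mul, map_mul, h2]
      ext1 v
      show rho n F B ((a : F) • v) = (a : F) • rho n F B v
      exact (isSemi_rho B).2.1 _ _
    rcases Cfsg.Agent.ClassicalGeometry.SympInvolutions.center_eq h1 with h2 | h2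
    · left; exact Subtype.ext h2
    · right; exact Subtype.ext h2
  · rintro (rfl | rfl)
    · exact map_one _
    · refine (fr.ker _).2 ⟨-1, ?_⟩
      ext1 v
      show (-1 : Matrix (Fin n ⊕ Fin n) (Fin n ⊕ Fin n) F) *ᵥ v = (((-1 : Fˣ) : F)) • v
      rw [Matrix.neg_mulVec, Matrix.one_mulVec, Units.val_neg, Units.val_one, neg_smul, one_smul]

theorem neg1_mem_center : neg1 F n ∈ Subgroup.center (symplecticGroup (Fin n) F) := by
  rw [Subgroup.mem_center_iff]
  intro B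
  exact (neg1_comm B).symm

theorem mem_center_iff {A : symplecticGroup (Fin n) F} : A ∈ Subgroup.center (symplecticGroup (Fin n) F) ↔
    A = 1 ∨ A = neg1 F n := by
  constructor
  · intro h
    rcases Cfsg.Agent.ClassicalGeometry.SympInvolutions.center_eq h with h2 | h2
    · left; exact Subtype.ext h2
    · right; exact Subtype.ext h2
  · rintro (rfl | rfl)
    · exact one_mem _
    · exact neg1_mem_center

end

end Cfsg.Agent.H269.S69
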